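import Mathlib

/-!
Sections of a group scheme over a DVR which reduce to the unit and are killed by a prime `q`
with `v(q) < q - 1` are trivial.

For a section `x` congruent to the unit mod `ϖ` the function `n ↦ f (x ^ n)` (`f` regular near
the unit) has `k`-th difference divisible by `ϖ ^ k`: it lies in the rings `T ϖ k` of such
functions, as one sees by comparing the two points `σ^* P` and `P * x` of the group over `T ϖ k`.
-/

set_option maxHeartbeats 800000
set_option autoImplicit false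
set_option backward.isDefEq.respectTransparency false

universe u

open CategoryTheory AlgebraicGeometry MonoidalCategory CartesianMonoidalCategory MonObj
open scoped fwdDiff

namespace Groth.Agent.SmallRam19

variable {R : Type u} [CommRing R]

section Alg

variable (ϖ : R)

/-- functions with `k` iterated differences divisible by the powers of `ϖ` -/
noncomputable def TT : ℕ → {S : Subalgebra R (ℕ → R) // ∀ g ∈ S, (fun n => g (n + 1)) ∈ S}
  | 0 => ⟨⊤, fun _ _ => Algebra.mem_top⟩
  | k + 1 => ⟨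
    { carrier := {g | g ∈ (TT k).1 ∧ ∃ h ∈ (TT k).1, ∀ n, g (n + 1) - g n = ϖ * h n}
      mul_mem' := by
        rintro g g' ⟨hg, h, hh, e⟩ ⟨hg', h', hh', e'⟩
        refine ⟨mul_mem hg hg', h * (fun n => g' (n + 1)) + g * h',
          add_mem (mul_mem hh ((TT k).2 g' hg')) (mul_mem hg hh'), fun n => ?_⟩
        simp only [Pi.mul_apply, Pi.add_apply]
        linear_combination g' (n + 1) * e n + g n * e' n
      add_mem' := by
        rintro g g' ⟨hg, h, hh, e⟩ ⟨hg', h', hh', e'⟩
        refine ⟨add_mem hg hg', h + h', add_mem hh hh', fun n => ?_⟩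
        simp only [Pi.add_apply]
        linear_combination e n + e' n
      algebraMap_mem' := fun r => ⟨Subalgebra.algebraMap_mem _ r, 0, zero_mem _, fun n => by
        simp [Pi.algebraMap_apply]⟩ },
    by
      rintro g ⟨hg, h, hh, e⟩
      exact ⟨(TT k).2 g hg, _, (TT k).2 h hh, fun n => e (n + 1)⟩⟩

noncomputable def T (k : ℕ) : Subalgebra R (ℕ → R) := (TT ϖ k).1

theorem mem_T_succ {k : ℕ} {g : ℕ → R} :
    g ∈ T ϖ (k + 1) ↔ g ∈ T ϖ k ∧ ∃ h ∈ T ϖ k, ∀ n, g (n + 1) - g n = ϖ * h n := Iff.rfl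

theorem shift_mem {k : ℕ} {g : ℕ → R} (hg : g ∈ T ϖ k) : (fun n => g (n + 1)) ∈ T ϖ k :=
  (TT ϖ k).2 g hg

theorem inv_mem : ∀ (k : ℕ) (g u : ℕ → R), g ∈ T ϖ k → (∀ n, u n * g n = 1) → u ∈ T ϖ k
  | 0, _, _, _, _ => Algebra.mem_top
  | k + 1, g, u, hg, hu => by
    obtain ⟨hg, h, hh, e⟩ := (mem_T_succ ϖ).mp hg
    have hu' := inv_mem k g u hg hu
    refine (mem_T_succ ϖ).mpr ⟨hu', -h * u * (fun n => u (n + 1)),
      mul_mem (mul_mem (neg_mem hh) hu') (shift_mem ϖ hu'), fun n => ?_⟩
    simp only [Pi.mul_apply, Pi.neg_apply]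
    linear_combination -(u n * u (n + 1)) * e n + u n * hu (n + 1) - u (n + 1) * hu n

theorem dvd_iter : ∀ (k : ℕ) (g : ℕ → R), g ∈ T ϖ k → ∀ j ≤ k, ∀ n, ϖ ^ j ∣ ((fwdDiff 1)^[j] g) n
  | _, g, _, 0, _, n => by simp
  | 0, _, _, _ + 1, hj, _ => absurd hj (by simp)
  | k + 1, g, hg, j + 1, hj, n => by
    obtain ⟨hg, h, hh, e⟩ := (mem_T_succ ϖ).mp hg
    have h1 : fwdDiff 1 g = ϖ • h := by funext m; simpa [fwdDiff] using e m
    rw [Function.iterate_succ_apply, h1, fwdDiff_iter_const_smul, Pi.smul_apply, smul_eq_mul,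
      pow_succ']
    exact mul_dvd_mul_left _ (dvd_iter k h hh j (by omega) n)

/-- an element of the maximal ideal of a local ring lies in every maximal ideal of `T ϖ k` -/
theorem algebraMap_mem_of_isMaximal [IsLocalRing R] {t : R}
    (ht : t ∈ IsLocalRing.maximalIdeal R) (k : ℕ) (m : Ideal (T ϖ k)) [m.IsMaximal] :
    algebraMap R (T ϖ k) t ∈ m := by
  have key : algebraMap R (T ϖ k) t ∈ Ideal.jacobson (⊥ : Ideal (T ϖ k)) := by
    rw [Ideal.mem_jacobson_bot]
    intro y
    have hv : ∀ n, IsUnit (t * (y : ℕ → R) n + 1) := fun n => by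
      by_contra hn
      have h1 : t * (y : ℕ → R) n + 1 ∈ IsLocalRing.maximalIdeal R :=
        (IsLocalRing.mem_maximalIdeal _).mpr hn
      have := (Ideal.add_mem_iff_right _ (Ideal.mul_mem_right _ _ ht)).mp h1
      exact (IsLocalRing.maximalIdeal.isMaximal R).ne_top
        ((Ideal.eq_top_iff_one _).mpr this)
    choose w hw using fun n => (hv n).exists_left_inv
    have hmem := inv_mem ϖ k _ w (algebraMap R (T ϖ k) t * y + 1).2 (fun n => by
      simpa [Pi.algebraMap_apply] using hw n)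
    refine isUnit_iff_exists_inv'.mpr ⟨⟨w, hmem⟩, Subtype.ext (funext fun n => ?_)⟩
    simpa [Pi.algebraMap_apply] using hw n
  exact (Ideal.mem_sInf.mp key) ⟨bot_le, inferInstance⟩

end Alg

section Points

/-- `Spec A` over `Spec R` -/
noncomputable abbrev sp (A : Type u) [CommRing A] [Algebra R A] :
    Over (Spec (CommRingCat.of R)) :=
  Over.mk (Spec.map (CommRingCat.ofHom (algebraMap R A)))

noncomputable def spm {A A' : Type u} [CommRing A] [Algebra R A] [CommRing A'] [Algebra R A']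
    (φ : A →ₐ[R] A') : sp (R := R) A' ⟶ sp A :=
  Over.homMk (Spec.map (CommRingCat.ofHom φ.toRingHom)) (by
    simp only [Over.mk_hom, ← Spec.map_comp, ← CommRingCat.ofHom_comp]
    exact congrArg (fun f => Spec.map (CommRingCat.ofHom f)) φ.comp_algebraMap)

theorem spm_left {A A' : Type u} [CommRing A] [Algebra R A] [CommRing A'] [Algebra R A']
    (φ : A →ₐ[R] A') : (spm φ).left = Spec.map (CommRingCat.ofHom φ.toRingHom) := rfl

theorem spm_comp {A A' A'' : Type u} [CommRing A] [Algebra R A] [CommRing A'] [Algebra R A']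
    [CommRing A''] [Algebra R A''] (φ : A →ₐ[R] A') (ψ : A' →ₐ[R] A'') :
    spm ψ ≫ spm φ = spm (ψ.comp φ) := by
  ext1
  simp [spm_left, ← Spec.map_comp]
  rfl

theorem spm_id (A : Type u) [CommRing A] [Algebra R A] :
    spm (AlgHom.id R A) = 𝟙 (sp A) := by
  ext1
  simp [spm_left]

variable {N : Over (Spec (CommRingCat.of R))} {B : Type u} [CommRing B] [Algebra R B]
  (j : sp B ⟶ N) [IsOpenImmersion j.left]

theorem spm_comp_inj {A : Type u} [CommRing A] [Algebra R A] {φ φ' : B →ₐ[R] A}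
    (h : spm φ ≫ j = spm φ' ≫ j) : φ = φ' := by
  have h1 := congrArg (fun g => g.left) h
  rw [Over.comp_left, Over.comp_left, spm_left, spm_left, cancel_mono] at h1
  have h2 := congrArg (fun g => g.hom) (Spec.map_injective h1)
  exact AlgHom.coe_ringHom_injective h2

theorem exists_spm_comp {A : Type u} [CommRing A] [Algebra R A] (g : sp A ⟶ N)
    (hg : ∀ q, g.left.base q ∈ j.left.opensRange) : ∃ φ : B →ₐ[R] A, g = spm φ ≫ j := by
  have hr : Set.range g.left.base ⊆ Set.range j.left.base := by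
    rintro _ ⟨q, rfl⟩; exact hg q
  obtain ⟨φ₀, hφ₀⟩ := Spec.map_surjective (IsOpenImmersion.lift j.left g.left hr)
  have hfac : Spec.map φ₀ ≫ j.left = g.left := by rw [hφ₀, IsOpenImmersion.lift_fac]
  have hw : CommRingCat.ofHom (algebraMap R B) ≫ φ₀ = CommRingCat.ofHom (algebraMap R A) := by
    apply Spec.map_injective
    have hj : j.left ≫ N.hom = Spec.map (CommRingCat.ofHom (algebraMap R B)) := Over.w j
    have hg' : g.left ≫ N.hom = Spec.map (CommRingCat.ofHom (algebraMap R A)) := Over.w g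
    rw [Spec.map_comp, ← hj, ← Category.assoc, hfac, hg']
  refine ⟨{ φ₀.hom with commutes' := fun r => congrArg (fun f => f.hom r) hw }, ?_⟩
  ext1
  rw [Over.comp_left, spm_left]
  exact hfac.symm

/-- all points of `Spec (T ϖ k)` go to an open as soon as those with `t` in the prime do -/
theorem mem_open_of_forall {X : Scheme.{u}} [IsLocalRing R] {ϖ t : R}
    (ht : t ∈ IsLocalRing.maximalIdeal R) (k : ℕ) (g : Spec (CommRingCat.of (T ϖ k)) ⟶ X)
    (W : X.Opens) (hW : ∀ q : PrimeSpectrum (T ϖ k),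
      algebraMap R (T ϖ k) t ∈ q.asIdeal → g.base q ∈ W) (q : PrimeSpectrum (T ϖ k)) :
    g.base q ∈ W := by
  obtain ⟨m, hm, hle⟩ := Ideal.exists_le_maximal q.asIdeal q.2.ne_top
  have hmW := hW ⟨m, hm.isPrime⟩ (algebraMap_mem_of_isMaximal ϖ ht k m)
  exact (((PrimeSpectrum.le_iff_specializes q ⟨m, hm.isPrime⟩).mp hle).map
    g.base.hom.continuous).mem_open W.2 hmW

end Points

section Main

variable [IsLocalRing R] {N : Over (Spec (CommRingCat.of R))} [GrpObj N]
  {B : Type u} [CommRing B] [Algebra R B] (j : sp B ⟶ N) [IsOpenImmersion j.left]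

/-- `f (x ^ n)` lies in all the rings `T ϖ k` when `x` is congruent to the unit mod `ϖ` -/
theorem mem_T_of_congr {ϖ t : R} (ht : t ∈ IsLocalRing.maximalIdeal R) (hϖ : t ∣ ϖ)
    (x : sp R ⟶ N) (c : ℕ → (B →ₐ[R] R)) (hc : ∀ n, x ^ n = spm (c n) ≫ j)
    (h01 : ∀ f, ϖ ∣ c 1 f - c 0 f) (k : ℕ) (f : B) : (fun n => c n f) ∈ T ϖ k := by
  induction k generalizing f with
  | zero => exact Algebra.mem_top
  | succ k ih =>
    let φ : B →ₐ[R] T ϖ k := (AlgHom.pi c).codRestrict (T ϖ k) ih
    let P : sp (T ϖ k) ⟶ N := spm φ ≫ j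
    let xA : sp (T ϖ k) ⟶ N := spm (Algebra.ofId R (T ϖ k)) ≫ x
    let ev : ℕ → (T ϖ k →ₐ[R] R) := fun n => (Pi.evalAlgHom R (fun _ : ℕ => R) n).comp (T ϖ k).val
    let I : Ideal (T ϖ k) := Ideal.span {algebraMap R _ ϖ}
    let q : T ϖ k →ₐ[R] (T ϖ k ⧸ I) := IsScalarTower.toAlgHom R (T ϖ k) (T ϖ k ⧸ I)
    have hx1 : x = spm (c 1) ≫ j := by rw [← hc 1, pow_one]
    have hx0 : (1 : sp R ⟶ N) = spm (c 0) ≫ j := by rw [← hc 0, pow_zero]
    have hq : spm (A' := T ϖ k ⧸ I) q ≫ xA = 1 := by
      have e0 : (Algebra.ofId R (T ϖ k ⧸ I)).comp (c 1)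
          = (Algebra.ofId R (T ϖ k ⧸ I)).comp (c 0) := by
        ext f
        simp only [AlgHom.comp_apply, Algebra.ofId_apply]
        rw [← sub_eq_zero, ← map_sub]
        obtain ⟨r, hr⟩ := h01 f
        rw [hr, map_mul, IsScalarTower.algebraMap_apply R (T ϖ k) (T ϖ k ⧸ I) ϖ]
        rw [show algebraMap (T ϖ k) (T ϖ k ⧸ I) (algebraMap R _ ϖ) = 0 from
          Ideal.Quotient.eq_zero_iff_mem.mpr (Ideal.subset_span rfl), zero_mul]
      calc spm (A' := T ϖ k ⧸ I) q ≫ xA = spm (Algebra.ofId R (T ϖ k ⧸ I)) ≫ x := by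
            rw [← Category.assoc, spm_comp]; congr 2 
        _ = spm (Algebra.ofId R (T ϖ k ⧸ I)) ≫ (spm (c 0) ≫ j) := by
            rw [hx1, ← Category.assoc, spm_comp, e0, ← spm_comp, Category.assoc]
        _ = 1 := by rw [← hx0, MonObj.comp_one]
    have hPQ : spm (A' := T ϖ k ⧸ I) q ≫ (P * xA) = spm (A' := T ϖ k ⧸ I) q ≫ P := by rw [MonObj.comp_mul, hq, _root_.mul_one]
    obtain ⟨ψ, hψ⟩ := exists_spm_comp j (P * xA) (mem_open_of_forall ht k _ _ (fun p hp => by
      have hI : I ≤ p.asIdeal := Ideal.span_le.mpr (Set.singleton_subset_iff.mpr (by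
        obtain ⟨d, rfl⟩ := hϖ
        rw [map_mul]; exact Ideal.mul_mem_right _ _ hp))
      have hmem : p ∈ Set.range (PrimeSpectrum.comap (R := T ϖ k) (S := T ϖ k ⧸ I) (Ideal.Quotient.mk I)) := by
        rw [range_comap_of_surjective _ _ Ideal.Quotient.mk_surjective,
          Ideal.mk_ker]
        exact hI
      obtain ⟨p', rfl⟩ := hmem
      have := congrArg (fun g => g.left.base p') hPQ
      simp only [Over.comp_left, spm_left, Scheme.Hom.comp_base, TopCat.comp_app] at this
      refine this ▸ ?_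
      exact ⟨_, rfl⟩))
    have hev : ∀ n, (ev n).comp ψ = c (n + 1) := fun n => by
      refine spm_comp_inj j ?_
      rw [← spm_comp, Category.assoc, ← hψ, MonObj.comp_mul, ← hc (n + 1), pow_succ, hc n]
      congr 1
      · simp only [P, ← Category.assoc, spm_comp]; rfl
      · simp only [xA, ← Category.assoc, spm_comp]
        rw [show (ev n).comp (Algebra.ofId R (T ϖ k)) = AlgHom.id R R from Subsingleton.elim _ _,
          spm_id, Category.id_comp]
    have hmod : q.comp ψ = q.comp φ := by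
      refine spm_comp_inj (A := T ϖ k ⧸ I) j ?_
      rw [← spm_comp, ← spm_comp, Category.assoc, Category.assoc, ← hψ]
      exact hPQ
    refine (mem_T_succ ϖ).mpr ⟨ih f, ?_⟩
    have hd : ψ f - φ f ∈ I := Ideal.Quotient.eq.mp (DFunLike.congr_fun hmod f)
    obtain ⟨h, hh⟩ := Ideal.mem_span_singleton'.mp hd
    refine ⟨(h : ℕ → R), h.2, fun n => ?_⟩
    have h1 : (h : ℕ → R) n * ϖ = (ψ f : ℕ → R) n - (φ f : ℕ → R) n := by
      simpa [Pi.algebraMap_apply] using congrFun (congrArg Subtype.val hh) n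
    have h2 : (ψ f : ℕ → R) n = c (n + 1) f := DFunLike.congr_fun (hev n) f
    have h3 : (φ f : ℕ → R) n = c n f := rfl
    rw [h2, h3] at h1
    linear_combination -h1

end Main

section Step

variable [IsDomain R] [IsLocalRing R]

/-- the numerical step: a function killed at `q` with small higher differences -/
theorem dvd_succ_of_mem_T {π : R} (hπ : π ≠ 0) {q v i : ℕ} (hq : q.Prime) (u : Rˣ)
    (hqv : (q : R) = u * π ^ v) (hv : v + 1 < q) (hi : 1 ≤ i) (F : ℕ → R)
    (hF : F ∈ T (π ^ i) q) (h0 : F 0 = 0) (hFq : F q = 0) : π ^ (i + 1) ∣ F 1 := by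
  have key := shift_eq_sum_fwdDiff_iter 1 F q 0
  simp only [smul_eq_mul, zero_add, Nat.mul_one, hFq] at key
  obtain ⟨m, hm⟩ : ∃ m, q = m + 2 := ⟨q - 2, by have := hq.two_le; omega⟩
  rw [show q + 1 = (m + 1) + 1 + 1 by omega, Finset.sum_range_succ', Finset.sum_range_succ'] at key
  simp only [Nat.reduceAdd, Function.iterate_zero, id_eq, h0, mul_zero, add_zero, Nat.choose_one_right,
    Function.iterate_one, fwdDiff, zero_add, sub_zero, Nat.choose_zero_right] at key
  have hsum : π ^ (v + (i + 1)) ∣ ∑ a ∈ Finset.range (m + 1),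
      q.choose (a + 1 + 1) • (fwdDiff 1)^[a + 1 + 1] F 0 := by
    refine Finset.dvd_sum fun a ha => ?_
    have ha' : a + 1 + 1 ≤ q := by have := Finset.mem_range.mp ha; omega
    have hd := dvd_iter (π ^ i) q F hF _ ha' 0
    rw [← pow_mul] at hd
    rw [nsmul_eq_mul]
    rcases eq_or_lt_of_le ha' with heq | hlt
    · refine dvd_mul_of_dvd_right ((pow_dvd_pow _ ?_).trans hd) _
      rw [heq]
      calc v + (i + 1) ≤ i * (v + 2) := by nlinarith
        _ ≤ i * q := Nat.mul_le_mul_left _ hv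
    · have hc : (q : R) ∣ (q.choose (a + 1 + 1) : R) :=
        Nat.cast_dvd_cast (hq.dvd_choose_self (by omega) hlt)
      rw [pow_add]
      refine mul_dvd_mul ((Dvd.intro_left _ hqv.symm).trans hc) ((pow_dvd_pow _ ?_).trans hd)
      nlinarith
  have h2 : π ^ (v + (i + 1)) ∣ (q : R) * F 1 := by
    rw [show (q : R) * F 1 = -(∑ a ∈ Finset.range (m + 1),
      q.choose (a + 1 + 1) • (fwdDiff 1)^[a + 1 + 1] F 0) by
        linear_combination (norm := (simp [nsmul_eq_mul] <;> ring)) -key]
    exact dvd_neg.mpr hsum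
  rw [hqv, pow_add, _root_.mul_assoc] at h2
  exact (mul_dvd_mul_iff_left (pow_ne_zero v hπ)).mp (Units.dvd_mul_left.mp h2)

end Step

section Final

variable [IsDomain R] [IsDiscreteValuationRing R] {N : Over (Spec (CommRingCat.of R))} [GrpObj N]

theorem exists_chart (y : N.left) : ∃ (B : CommRingCat.{u}) (_ : Algebra R B) (j : sp B ⟶ N),
    ∃ _ : IsOpenImmersion j.left, y ∈ j.left.opensRange := by
  obtain ⟨W, hW, hy, -⟩ :=
    exists_isAffineOpen_mem_and_subset (U := (⊤ : N.left.Opens)) (x := y) trivial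
  obtain ⟨g, hg⟩ := Spec.map_surjective (hW.fromSpec ≫ N.hom)
  letI : Algebra R Γ(N.left, W) := g.hom.toAlgebra
  refine ⟨Γ(N.left, W), inferInstance, Over.homMk hW.fromSpec ?_, ?_, ?_⟩
  · exact hg.symm
  · exact inferInstanceAs (IsOpenImmersion hW.fromSpec)
  · change y ∈ hW.fromSpec.opensRange
    rw [hW.opensRange_fromSpec]
    exact hy

theorem dvd_sub_of_red {π : R} (hπ : Irreducible π) {B : Type u} [CommRing B] [Algebra R B]
    (j : sp B ⟶ N) [IsOpenImmersion j.left] {x y : sp R ⟶ N} {a b : B →ₐ[R] R}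
    (ha : x = spm a ≫ j) (hb : y = spm b ≫ j)
    (hred : x.left.base (IsLocalRing.closedPoint R) = y.left.base (IsLocalRing.closedPoint R)) :
    ∀ f, π ∣ a f - b f := by
  set m := IsLocalRing.maximalIdeal R with hm
  have h1 : j.left.base ((spm a).left.base (IsLocalRing.closedPoint R))
      = j.left.base ((spm b).left.base (IsLocalRing.closedPoint R)) := by
    rw [ha, hb] at hred
    simpa using hred
  have h2 := congrArg PrimeSpectrum.asIdeal (j.left.isOpenEmbedding.injective h1)
  intro f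
  have h3 : f - algebraMap R B (b f) ∈ m.comap b.toRingHom := by simp
  have h4 : f - algebraMap R B (b f) ∈ m.comap a.toRingHom := by
    change _ ∈ ((spm a).left.base (IsLocalRing.closedPoint R)).asIdeal
    rw [h2]; exact h3
  have h5 : a f - b f ∈ m := by simpa using h4
  rwa [hm, hπ.maximalIdeal_eq, Ideal.mem_span_singleton] at h5


omit [GrpObj N] in
theorem exists_lift_red {B : Type u} [CommRing B] [Algebra R B]
    (j : sp B ⟶ N) [IsOpenImmersion j.left] (g : sp R ⟶ N)
    (hg : g.left.base (IsLocalRing.closedPoint R) ∈ j.left.opensRange) :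
    ∃ φ : B →ₐ[R] R, g = spm φ ≫ j :=
  exists_spm_comp j g fun p => ((IsLocalRing.specializes_closedPoint p).map
    g.left.base.hom.continuous).mem_open j.left.opensRange.2 hg

theorem pow_red {π : R} (hπ : Irreducible π) (x : sp R ⟶ N)
    (hred : x.left.base (IsLocalRing.closedPoint R)
      = (1 : sp R ⟶ N).left.base (IsLocalRing.closedPoint R)) (n : ℕ) :
    (x ^ n).left.base (IsLocalRing.closedPoint R)
      = (1 : sp R ⟶ N).left.base (IsLocalRing.closedPoint R) := by
  obtain ⟨B, _, j, hj, hy⟩ :=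
    exists_chart (N := N) ((1 : sp R ⟶ N).left.base (IsLocalRing.closedPoint R))
  obtain ⟨a, ha⟩ := exists_lift_red j x (hred ▸ hy)
  obtain ⟨b, hb⟩ := exists_lift_red j 1 hy
  have hba := dvd_sub_of_red hπ j ha hb hred
  let κ : R →ₐ[R] IsLocalRing.ResidueField R := Algebra.ofId R _
  have hκ : spm κ ≫ x = 1 := by
    have e : κ.comp a = κ.comp b := by
      ext f
      simp only [AlgHom.comp_apply, κ, Algebra.ofId_apply]
      rw [← sub_eq_zero, ← map_sub, IsLocalRing.ResidueField.algebraMap_eq,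
        IsLocalRing.residue_eq_zero_iff, hπ.maximalIdeal_eq, Ideal.mem_span_singleton]
      exact hba f
    rw [ha, ← Category.assoc, spm_comp, e, ← spm_comp, Category.assoc, ← hb, MonObj.comp_one]
  have hn : spm κ ≫ x ^ n = spm κ ≫ (1 : sp R ⟶ N) := by
    rw [MonObj.comp_pow, hκ, one_pow, MonObj.comp_one]
  have := congrArg (fun g => g.left.base (IsLocalRing.closedPoint (IsLocalRing.ResidueField R))) hn
  have hc : (spm κ).left.base (IsLocalRing.closedPoint (IsLocalRing.ResidueField R))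
      = IsLocalRing.closedPoint R := IsLocalRing.PrimeSpectrum.comap_residue R _ 
  simp only [Over.comp_left, Scheme.Hom.comp_base, TopCat.comp_app, hc] at this
  exact this

/-- a point killed by the prime `q` and reducing to the unit is the unit, for `v(q) < q - 1` -/
theorem eq_one_of_pow_prime {π : R} (hπ : Irreducible π) {q v : ℕ} (hq : q.Prime) (u : Rˣ)
    (hqv : (q : R) = u * π ^ v) (hv : v + 1 < q) (x : sp R ⟶ N) (hx : x ^ q = 1)
    (hred : x.left.base (IsLocalRing.closedPoint R)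
      = (1 : sp R ⟶ N).left.base (IsLocalRing.closedPoint R)) : x = 1 := by
  obtain ⟨B, _, j, hj, hy⟩ :=
    exists_chart (N := N) ((1 : sp R ⟶ N).left.base (IsLocalRing.closedPoint R))
  have hlift := exists_lift_red j
  obtain ⟨a, ha⟩ := hlift x (hred ▸ hy)
  obtain ⟨b, hb⟩ := hlift 1 hy
  set m := IsLocalRing.maximalIdeal R with hm
  have hπm : π ∈ m := by
    rw [hm, hπ.maximalIdeal_eq]; exact Ideal.subset_span rfl
  have hba := dvd_sub_of_red hπ j ha hb hred
  have hres : ∀ n : ℕ, (x ^ n).left.base (IsLocalRing.closedPoint R) ∈ j.left.opensRange :=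
    fun n => pow_red hπ x hred n ▸ hy
  choose c hc using fun n => hlift (x ^ n) (hres n)
  have hc0 : c 0 = b := spm_comp_inj j (by rw [← hc, pow_zero, hb])
  have hc1 : c 1 = a := spm_comp_inj j (by rw [← hc, pow_one, ha])
  have hcq : c q = b := spm_comp_inj j (by rw [← hc, hx, hb])
  have hall : ∀ i f, π ^ (i + 1) ∣ a f - b f := by
    intro i
    induction i with
    | zero => simpa using hba
    | succ i ih =>
      intro f
      let f' := f - algebraMap R B (b f)
      have h := mem_T_of_congr j (ϖ := π ^ (i + 1)) hπm (dvd_pow_self π i.succ_ne_zero) x c hc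
        (fun g => hc1 ▸ hc0 ▸ ih g) q f'
      have := dvd_succ_of_mem_T hπ.ne_zero hq u hqv hv (Nat.succ_pos i) _ h
        (by simp [f', hc0]) (by simp [f', hcq])
      simpa [f', hc1] using this
  have hab : a = b := by
    ext f
    rw [← sub_eq_zero]
    have hI : a f - b f ∈ ⨅ i : ℕ, m ^ i := by
      rw [Ideal.mem_iInf]
      intro i
      rw [hm, hπ.maximalIdeal_eq, Ideal.span_singleton_pow, Ideal.mem_span_singleton]
      exact (pow_dvd_pow π i.le_succ).trans (hall i f)
    rwa [Ideal.iInf_pow_eq_bot_of_isLocalRing _ (IsLocalRing.maximalIdeal.isMaximal R).ne_top,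
      Ideal.mem_bot] at hI
  rw [ha, hab, ← hb]

/-- a torsion point reducing to the unit is the unit, for small ramification -/
theorem eq_one_of_pow_eq_one {π : R} (hπ : Irreducible π)
    (hsmall : ∀ q : ℕ, q.Prime → ∃ (v : ℕ) (u : Rˣ), (q : R) = u * π ^ v ∧ v + 1 < q)
    (x : sp R ⟶ N) (n : ℕ) (hn : 0 < n) (hx : x ^ n = 1)
    (hred : x.left.base (IsLocalRing.closedPoint R)
      = (1 : sp R ⟶ N).left.base (IsLocalRing.closedPoint R)) : x = 1 := by
  induction n using Nat.strong_induction_on generalizing x with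
  | _ n ih =>
    rcases Nat.eq_or_lt_of_le hn with h | h
    · simpa [← h] using hx
    obtain ⟨q, hq, m, rfl⟩ := Nat.exists_prime_and_dvd (n := n) (by omega)
    have hm : 0 < m := by
      rcases Nat.eq_zero_or_pos m with rfl | hm
      · simp at hn
      · exact hm
    obtain ⟨v, u, hqv, hv⟩ := hsmall q hq
    have hpow : (x ^ m).left.base (IsLocalRing.closedPoint R)
        = (1 : sp R ⟶ N).left.base (IsLocalRing.closedPoint R) := pow_red hπ x hred m
    have hm1 : x ^ m = 1 :=
      eq_one_of_pow_prime hπ hq u hqv hv _ (by rwa [← pow_mul, mul_comm]) hpow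
    exact ih m (lt_mul_of_one_lt_left hm hq.one_lt) x hm hm1 hred

end Final

end Groth.Agent.SmallRam19
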